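import Cfsg.Agent.Lib.Helper11.Suzc2.D0
import Cfsg.Agent.Lib.Helper11.Words

set_option autoImplicit false
set_option maxRecDepth 100000

namespace Cfsg.Agent.Lib.Helper11.Suzc2

noncomputable def fc1_0 (i : ℕ) : ℕ := (Bool.rec (Bool.rec (Bool.rec (Bool.rec (fc0_0 i) (fc0_1 i) (Nat.ble 16 i)) (Bool.rec (fc0_2 i) (fc0_3 i) (Nat.ble 48 i)) (Nat.ble 32 i)) (Bool.rec (Bool.rec (fc0_4 i) (fc0_5 i) (Nat.ble 80 i)) (Bool.rec (fc0_6 i) (fc0_7 i) (Nat.ble 112 i)) (Nat.ble 96 i)) (Nat.ble 64 i)) (Bool.rec (Bool.rec (Bool.rec (fc0_8 i) (fc0_9 i) (Nat.ble 144 i)) (Bool.rec (fc0_10 i) (fc0_11 i) (Nat.ble 176 i)) (Nat.ble 160 i)) (Bool.rec (Bool.rec (fc0_12 i) (fc0_13 i) (Nat.ble 208 i)) (Bool.rec (fc0_14 i) (fc0_15 i) (Nat.ble 240 i)) (Nat.ble 224 i)) (Nat.ble 192 i)) (Nat.ble 128 i))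
noncomputable def fc (i : ℕ) : ℕ := fc1_0 i
noncomputable def sc1_0 (i : ℕ) : ℕ := (Bool.rec (Bool.rec (Bool.rec (Bool.rec (sc0_0 i) (sc0_1 i) (Nat.ble 16 i)) (Bool.rec (sc0_2 i) (sc0_3 i) (Nat.ble 48 i)) (Nat.ble 32 i)) (Bool.rec (Bool.rec (sc0_4 i) (sc0_5 i) (Nat.ble 80 i)) (Bool.rec (sc0_6 i) (sc0_7 i) (Nat.ble 112 i)) (Nat.ble 96 i)) (Nat.ble 64 i)) (Bool.rec (Bool.rec (Bool.rec (sc0_8 i) (sc0_9 i) (Nat.ble 144 i)) (Bool.rec (sc0_10 i) (sc0_11 i) (Nat.ble 176 i)) (Nat.ble 160 i)) (Bool.rec (Bool.rec (sc0_12 i) (sc0_13 i) (Nat.ble 208 i)) (Bool.rec (sc0_14 i) (sc0_15 i) (Nat.ble 240 i)) (Nat.ble 224 i)) (Nat.ble 192 i)) (Nat.ble 128 i))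
noncomputable def sc (i : ℕ) : ℕ := sc1_0 i
noncomputable def nc (i : ℕ) : ℕ := nc0_0 i
noncomputable def cc1_0 (i : ℕ) : ℕ := (Bool.rec (Bool.rec (cc0_0 i) (cc0_1 i) (Nat.ble 16 i)) (Bool.rec (cc0_2 i) (Bool.rec (cc0_3 i) (cc0_4 i) (Nat.ble 64 i)) (Nat.ble 48 i)) (Nat.ble 32 i))
noncomputable def cc (i : ℕ) : ℕ := cc1_0 i

noncomputable def INV : ℕ := 4294688
def isH (l : ℕ) : Bool := decide (l ∈ [])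
def gens : List ℕ := [1, 2, 3, 4]
def rt : RT := (.node 5 (.node 3 (.node 2 (.node 1 (.leaf 3 0 [3, 3]) (.leaf 12 0 [2, 4, 2, 4])) (.leaf 2 0 [2, 2])) (.node 4 (.leaf 4 0 [4, 4]) (.leaf 8 0 [1, 4, 1, 4]))) (.node 9 (.node 7 (.node 6 (.leaf 7 0 [1, 3, 1, 3]) (.leaf 1 0 [1, 1])) (.node 8 (.leaf 11 1 [3, 2, 3, 2, 3, 2]) (.leaf 11 0 [2, 3, 2, 3, 2, 3]))) (.node 12 (.node 11 (.node 10 (.leaf 0 0 []) (.leaf 7 1 [3, 1, 3, 1])) (.leaf 21 3 [4, 3, 4, 3, 4, 3, 1, 4, 3])) (.node 14 (.node 13 (.leaf 21 2 [3, 4, 3, 4, 3, 4, 3, 1, 4]) (.leaf 12 1 [4, 2, 4, 2])) (.node 16 (.node 15 (.leaf 8 1 [4, 1, 4, 1]) (.leaf 6 1 [2, 1, 2, 1, 2, 1, 2, 1, 2, 1])) (.node 17 (.leaf 6 0 [1, 2, 1, 2, 1, 2, 1, 2, 1, 2]) (.node 18 (.leaf 21 1 [4, 3, 4, 3, 4, 3, 4, 3, 1]) (.node 19 (.leaf 21 0 [1, 4, 3, 4, 3,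 4, 3, 4, 3]) (.leaf 21 8 [3, 1, 4, 3, 4, 3, 4, 3, 4])))))))))


end Cfsg.Agent.Lib.Helper11.Suzc2
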